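import Groth.Agent.Lib.H99Desc.Split
import Groth.Agent.Lib.SurfInt.NegDef
import Groth.Agent.H34.DimOne
import Groth.Agent.Lib.GrpSch.SmoothReduced
import Mathlib.AlgebraicGeometry.AlgClosed.Basic

/-!
# Descending morphisms along the normalisation of a curve of genus zero
-/

set_option autoImplicit false
set_option linter.style.haveILetI false
set_option backward.isDefEq.respectTransparency false

universe u

open CategoryTheory CategoryTheory.Limits AlgebraicGeometry Opposite TopologicalSpace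
open Groth.Agent.Lib.Curves.PolePoint

noncomputable section

namespace Groth.Agent.Lib.H99Desc

section Gen

variable {X Y : Scheme.{u}}

lemma isUnit_germ_add {U : X.Opens} {x : X} (hx : x ∈ U) {a b : Γ(X, U)}
    (ha : x ∉ X.basicOpen a) : x ∈ X.basicOpen (a + b) ↔ x ∈ X.basicOpen b := by
  rw [Scheme.mem_basicOpen X _ x hx, Scheme.mem_basicOpen X _ x hx, map_add]
  have ha' : ¬ IsUnit (X.presheaf.germ U x hx a) := fun h => ha ((Scheme.mem_basicOpen X _ x hx).2 h)
  constructor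
  · exact fun h => ((IsLocalRing.isUnit_or_isUnit_of_isUnit_add h).resolve_left ha')
  · intro h
    by_contra h'
    have := IsLocalRing.nonunits_add h' (fun hh => ha' (by simpa using hh.neg) :
      -(X.presheaf.germ U x hx a) ∈ nonunits _)
    rw [add_neg_cancel_comm] at this
    exact this h

lemma mem_res {U V : X.Opens} (h : V ≤ U) {x : X} (hx : x ∈ V) (a : Γ(X, U)) :
    x ∈ X.basicOpen (X.presheaf.map (homOfLE h).op a) ↔ x ∈ X.basicOpen a := by
  rw [Scheme.basicOpen_res]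
  exact ⟨fun hh => hh.2, fun hh => ⟨hx, hh⟩⟩

lemma app_bijective (f : X ⟶ Y) {U O : Y.Opens} [IsIso (f ∣_ U)] (hO : O ≤ U) :
    Function.Bijective (f.app O).hom := by
  obtain ⟨O', rfl⟩ : ∃ O' : (U : Scheme.{u}).Opens, U.ι ''ᵁ O' = O :=
    ⟨U.ι ⁻¹ᵁ O, by rw [Scheme.Hom.image_preimage_eq_opensRange_inf, Scheme.Opens.opensRange_ι,
      inf_eq_right.2 hO]⟩
  have h := morphismRestrict_app f U O'
  rw [eqToHom_op, eqToHom_map] at h
  haveI : IsIso (f.app (U.ι ''ᵁ O')) := by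
    have hi : IsIso ((f ∣_ U).app O') := inferInstance
    rw [h] at hi
    exact (isIso_comp_right_iff _ _).1 hi
  exact (ConcreteCategory.isIso_iff_bijective (f.app (U.ι ''ᵁ O'))).1 inferInstance

lemma mem_range_of_isIso (f : X ⟶ Y) {U : Y.Opens} [IsIso (f ∣_ U)] {y : Y} (hy : y ∈ U) :
    ∃ x, f.base x = y := by
  obtain ⟨z, hz⟩ := (f ∣_ U).surjective ⟨y, hy⟩
  refine ⟨(f ⁻¹ᵁ U).ι.base z, ?_⟩
  have := congrArg (fun φ : (f ⁻¹ᵁ U : Scheme.{u}) ⟶ Y => φ.base z) (morphismRestrict_ι f U)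
  exact this.symm.trans (congrArg U.ι.base hz)

lemma eq_of_isIso (f : X ⟶ Y) {U : Y.Opens} [IsIso (f ∣_ U)] {a b : X}
    (ha : f.base a ∈ U) (hab : f.base a = f.base b) : a = b := by
  have hb : f.base b ∈ U := hab ▸ ha
  have hi : Function.Injective (f ∣_ U).base := (f ∣_ U).isOpenEmbedding.injective
  have h : ∀ (c : X) (hc : f.base c ∈ U), U.ι.base ((f ∣_ U).base ⟨c, hc⟩) = f.base c := fun c hc =>
    congrArg (fun φ : (f ⁻¹ᵁ U : Scheme.{u}) ⟶ Y => φ.base ⟨c, hc⟩) (morphismRestrict_ι f U)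
  have e : (f ∣_ U).base ⟨a, ha⟩ = (f ∣_ U).base ⟨b, hb⟩ :=
    U.ι.isOpenEmbedding.injective (((h a ha).trans hab).trans (h b hb).symm)
  exact congrArg Subtype.val (hi e)

/-- A maximal point lies in every dense open. -/
lemma mem_of_component [NoetherianSpace X] {y : X}
    (hy : closure ({y} : Set X) ∈ irreducibleComponents X) {U : X.Opens}
    (hU : Dense (U : Set X)) : y ∈ U := by
  obtain ⟨O, hO, hne, hle⟩ :=
    NoetherianSpace.exists_isOpen_nonempty_subset_irreducibleComponent _ hy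
  obtain ⟨z, hz1, hz2⟩ := hU.inter_open_nonempty O hO hne
  exact (specializes_iff_mem_closure.2 (hle hz1)).mem_open U.2 hz2

/-- Every point has a generization in a given dense open. -/
lemma exists_generization [NoetherianSpace X] (x : X) {U : X.Opens}
    (hU : Dense (U : Set X)) : ∃ η, η ⤳ x ∧ η ∈ U := by
  have hc : irreducibleComponent x ∈ irreducibleComponents X :=
    irreducibleComponent_mem_irreducibleComponents x
  obtain ⟨η, hη⟩ := QuasiSober.sober (α := X) (S := irreducibleComponent x)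
    isIrreducible_irreducibleComponent isClosed_irreducibleComponent
  refine ⟨η, specializes_iff_mem_closure.2 (hη.def ▸ mem_irreducibleComponent), ?_⟩
  exact mem_of_component (hη.def ▸ hc) hU

end Gen

variable {k : Type u} [Field k] [IsAlgClosed k]
variable {C C' : Scheme.{u}} [C.Over (Spec (CommRingCat.of k))] [C'.Over (Spec (CommRingCat.of k))]

lemma exists_value [LocallyOfFiniteType (C ↘ Spec (CommRingCat.of k))] {x : C}
    (hx : IsClosed ({x} : Set C)) {W : C.Opens} (hxW : x ∈ W) (a : Γ(C, W)) :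
    ∃ c : k, x ∉ C.basicOpen (a - cst k W c) := by
  let ψ : CommRingCat.of k ⟶ C.residueField x :=
    CommRingCat.ofHom (cst k W) ≫ C.evaluation W x hxW
  have e : Spec.map ψ = C.fromSpecResidueField x ≫ C ↘ Spec (CommRingCat.of k) := by
    have h1 : ψ = CommRingCat.ofHom (cst k ⊤) ≫ C.evaluation ⊤ x trivial := by
      show CommRingCat.ofHom (cst k W) ≫ C.presheaf.germ W x hxW ≫ C.residue x = _
      rw [← res_cst (k := k) (le_top : W ≤ ⊤)]
      show (CommRingCat.ofHom (cst k ⊤) ≫ C.presheaf.map (homOfLE le_top).op) ≫ _ = _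
      rw [Category.assoc, TopCat.Presheaf.germ_res_assoc]
      rfl
    apply ext_of_isAffine
    rw [h1, Scheme.Hom.comp_appTop, Scheme.fromSpecResidueField, Scheme.Hom.comp_appTop,
      Scheme.fromSpecStalk_appTop]
    rw [← cancel_mono (Scheme.ΓSpecIso (C.residueField x)).hom, Scheme.ΓSpecIso_naturality]
    simp only [Category.assoc, Scheme.ΓSpecIso_naturality, Iso.inv_hom_id_assoc]
    show (Scheme.ΓSpecIso (CommRingCat.of k)).hom ≫ ((Scheme.ΓSpecIso (CommRingCat.of k)).inv ≫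
      (C ↘ Spec (CommRingCat.of k)).appLE ⊤ ⊤ le_top) ≫ C.presheaf.germ ⊤ x trivial ≫ C.residue x = _
    rw [Category.assoc, Iso.hom_inv_id_assoc, show (C ↘ Spec (CommRingCat.of k)).appLE ⊤ ⊤ le_top =
      (C ↘ Spec (CommRingCat.of k)).appTop from (Scheme.Hom.app_eq_appLE _).symm]
    simp
  have e2 : Spec.map (residueFieldIsoBase (C ↘ Spec (CommRingCat.of k)) x hx).inv = Spec.map ψ := by
    rw [e, SpecMap_residueFieldIsoBase_inv]
  have hb : Function.Bijective ψ.hom := by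
    rw [← Spec.map_injective e2]
    exact (residueFieldIsoBase (C ↘ Spec (CommRingCat.of k)) x hx).commRingCatIsoToRingEquiv.symm.bijective
  obtain ⟨c, hc⟩ := hb.2 (C.evaluation W x hxW a)
  refine ⟨c, fun h => ?_⟩
  rw [← Scheme.evaluation_ne_zero_iff_mem_basicOpen C x hxW] at h
  exact h (by rw [map_sub, sub_eq_zero]; exact hc.symm)

variable (k) in
/-- A finite map of a smooth curve onto a connected curve with `H¹(O) = 0`, birational. -/
structure Ctx (ν : C' ⟶ C) (U : C.Opens) : Prop where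
  prop : IsProper (C ↘ Spec (CommRingCat.of k))
  red : IsReduced C
  conn : ConnectedSpace C
  dim : topologicalKrullDim C ≤ 1
  h1 : Subsingleton (Coh.HH C (Coh.structureModule C) 1)
  smooth : Smooth (C' ↘ Spec (CommRingCat.of k))
  fin : IsFinite ν
  hover : ν ≫ (C ↘ Spec (CommRingCat.of k)) = C' ↘ Spec (CommRingCat.of k)
  dense : Dense (U : Set C)
  dense' : Dense ((ν ⁻¹ᵁ U : C'.Opens) : Set C')
  iso : IsIso (ν ∣_ U)

namespace Ctx

variable {ν : C' ⟶ C} {U : C.Opens} (h : Ctx k ν U)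

include h

lemma noeth : NoetherianSpace C := by
  haveI := h.prop
  exact Curves.GlobalSections.noetherianSpace_of_proper k C

lemma proper' : IsProper (C' ↘ Spec (CommRingCat.of k)) := by
  haveI := h.prop
  haveI := h.fin
  rw [← h.hover]
  infer_instance

lemma noeth' : NoetherianSpace C' := by
  haveI := h.proper'
  exact Curves.GlobalSections.noetherianSpace_of_proper k C'

lemma red' : IsReduced C' := by
  haveI := h.smooth
  exact GrpSch.isReduced_of_smooth_field (C' ↘ Spec (CommRingCat.of k))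

lemma domain' (z : C') : IsDomain (C'.presheaf.stalk z) := by
  haveI := h.smooth
  haveI := Groth.Agent.Lib.SurfInt.NegDef.regular_of_smooth (k := k) z
  exact Groth.Agent.Lib.Regular.Quotient.isDomain _

lemma surj : Function.Surjective ν.base := by
  haveI := h.fin
  haveI := h.iso
  intro y
  have hsub : (U : Set C) ⊆ Set.range ν.base := fun z hz => mem_range_of_isIso ν hz
  have hcl : IsClosed (Set.range ν.base) := ν.isClosedMap.isClosed_range
  have := closure_minimal hsub hcl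
  rw [h.dense.closure_eq] at this
  exact this (Set.mem_univ y)

lemma isClosed_of_not_mem {x : C} (hx : x ∉ U) : IsClosed ({x} : Set C) := by
  haveI := h.noeth
  exact (H34.DimOne.isClosed_or_component h.dim x).resolve_right
    fun hc => hx (mem_of_component hc h.dense)

lemma exists_nhd (x : C) : ∃ O : C.Opens, x ∈ O ∧ ∀ y ∈ O, y ≠ x → y ∈ U := by
  haveI := h.noeth
  obtain ⟨S, hS, hSc, hSi, hSe⟩ :=
    NoetherianSpace.exists_finite_set_isClosed_irreducible (α := C) (s := (U : Set C)ᶜ) U.2.isClosed_compl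
  have hfin : ((U : Set C)ᶜ).Finite := by
    rw [hSe]
    refine hS.sUnion fun t ht => ?_
    obtain ⟨η, hη⟩ := QuasiSober.sober (hSi t ht) (hSc t ht)
    have hηU : η ∉ U := fun hm =>
      (hSe.symm ▸ Set.mem_sUnion.2 ⟨t, ht, hη.mem⟩ : η ∈ (U : Set C)ᶜ) hm
    rw [← hη.def, (h.isClosed_of_not_mem hηU).closure_eq]
    exact Set.finite_singleton η
  have hc : IsClosed (((U : Set C)ᶜ) \ {x}) := by
    rw [← Set.biUnion_of_singleton (((U : Set C)ᶜ) \ {x})]
    exact (hfin.subset Set.diff_subset).isClosed_biUnion fun y hy => h.isClosed_of_not_mem hy.1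
  exact ⟨⟨_, hc.isOpen_compl⟩, fun hh => hh.2 rfl,
    fun y hy hyx => by_contra fun hu => hy ⟨hu, hyx⟩⟩

lemma cst_app (V : C.Opens) (c : k) :
    (ν.app V).hom (cst k V c) = cst k (ν ⁻¹ᵁ V) c := by
  show (ν.app V).hom (((Scheme.ΓSpecIso (CommRingCat.of k)).inv ≫
    (C ↘ Spec (CommRingCat.of k)).appLE ⊤ V le_top).hom c) = _
  rw [← ConcreteCategory.comp_apply]
  unfold cst
  congr 2
  rw [Category.assoc, ← h.hover]
  congr 1
  rw [Scheme.Hom.app_eq_appLE, Scheme.Hom.appLE_comp_appLE]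

lemma app_injective (V : C.Opens) : Function.Injective (ν.app V).hom := by
  haveI := h.red
  refine (injective_iff_map_eq_zero _).2 fun a ha => ?_
  apply eq_zero_of_basicOpen_eq_bot
  have h0 : ν ⁻¹ᵁ C.basicOpen a = ⊥ := by
    rw [Scheme.preimage_basicOpen, ha, Scheme.basicOpen_zero]
  refine eq_bot_iff.2 fun y hy => ?_
  obtain ⟨z, rfl⟩ := h.surj y
  exact (h0.le (show z ∈ ν ⁻¹ᵁ C.basicOpen a from hy))

/-- Functions on the normalisation vanishing on a fibre descend. -/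
theorem descend {x : C} (hx : IsClosed ({x} : Set C)) {V : C.Opens} (hxV : x ∈ V)
    (hV : ∀ y ∈ V, y ≠ x → y ∈ U) (g : Γ(C', ν ⁻¹ᵁ V))
    (hg : ∀ z, ν.base z = x → z ∉ C'.basicOpen g) : ∃ a : Γ(C, V), (ν.app V).hom a = g := by
  haveI := h.iso
  haveI := h.fin
  let W : C.Opens := ⟨({x} : Set C)ᶜ, hx.isOpen_compl⟩
  have hVW : V ⊔ W = ⊤ := by
    ext y
    simp only [Opens.coe_sup, Opens.coe_top, Set.mem_union, Set.mem_univ, iff_true]
    by_cases hy : y = x
    · exact Or.inl (hy ▸ hxV)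
    · exact Or.inr hy
  have hO : V ⊓ W ≤ U := fun y hy => hV y hy.1 hy.2
  obtain ⟨s, hs⟩ := (app_bijective ν hO).2
    (C'.presheaf.map (homOfLE (fun z hz => hz.1 : ν ⁻¹ᵁ (V ⊓ W) ≤ ν ⁻¹ᵁ V)).op g)
  obtain ⟨v, w, hvw⟩ := exists_sub h.h1 hVW s
  let a₁ : Γ(C', ν ⁻¹ᵁ V) := g - (ν.app V).hom v
  let a₂ : Γ(C', ν ⁻¹ᵁ W) := -(ν.app W).hom w
  have hcompat : C'.presheaf.map (homOfLE (inf_le_left : ν ⁻¹ᵁ V ⊓ ν ⁻¹ᵁ W ≤ ν ⁻¹ᵁ V)).op a₁ =
      C'.presheaf.map (homOfLE (inf_le_right : ν ⁻¹ᵁ V ⊓ ν ⁻¹ᵁ W ≤ ν ⁻¹ᵁ W)).op a₂ := by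
    have e1 := congrArg (fun φ => φ.hom v)
      (ν.naturality (homOfLE (inf_le_left : V ⊓ W ≤ V)).op)
    have e2 := congrArg (fun φ => φ.hom w)
      (ν.naturality (homOfLE (inf_le_right : V ⊓ W ≤ W)).op)
    simp only [CommRingCat.hom_comp, RingHom.comp_apply] at e1 e2
    have e3 := hs
    rw [hvw, map_sub] at e3
    rw [e1, e2] at e3
    show C'.presheaf.map _ (g - (ν.app V).hom v) = C'.presheaf.map _ (-(ν.app W).hom w)
    rw [map_sub, map_neg]
    exact sub_eq_iff_eq_add.2 (e3.symm.trans (sub_eq_neg_add _ _))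
  obtain ⟨G₀, hG, -⟩ := TopCat.Sheaf.existsUnique_gluing' C'.sheaf
    (fun b : Bool => if b then ν ⁻¹ᵁ V else ν ⁻¹ᵁ W) ⊤ (fun _ => homOfLE le_top)
    (by
      intro z _
      have hz : ν.base z ∈ V ⊔ W := hVW.ge trivial
      rcases hz with hz | hz
      · exact Opens.mem_iSup.2 ⟨true, hz⟩
      · exact Opens.mem_iSup.2 ⟨false, hz⟩)
    (fun b => Bool.rec a₂ a₁ b) (by
      intro i j
      cases i <;> cases j
      · rfl
      · have := congrArg (C'.presheaf.map (homOfLE (le_of_eq (inf_comm _ _) :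
            ν ⁻¹ᵁ W ⊓ ν ⁻¹ᵁ V ≤ ν ⁻¹ᵁ V ⊓ ν ⁻¹ᵁ W)).op) hcompat
        rw [← ConcreteCategory.comp_apply, ← ConcreteCategory.comp_apply,
          ← Functor.map_comp, ← Functor.map_comp] at this
        exact this.symm
      · exact hcompat
      · rfl)
  let G : Γ(C', ⊤) := G₀
  have hG1 : C'.presheaf.map (homOfLE (le_top : ν ⁻¹ᵁ V ≤ ⊤)).op G = a₁ := hG true
  have hG2 : C'.presheaf.map (homOfLE (le_top : ν ⁻¹ᵁ W ≤ ⊤)).op G = a₂ := hG false
  have hrc : ∀ (O : C'.Opens) (c : k),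
      C'.presheaf.map (homOfLE (le_top : O ≤ ⊤)).op (cst k ⊤ c) = cst k O c := fun O c =>
    RingHom.congr_fun (res_cst (k := k) (le_top : O ≤ (⊤ : C'.Opens))) c
  let B : k → Set C := fun c => {y | (y ≠ x ∧ y ∈ C.basicOpen (-w - cst k W c)) ∨
    (y = x ∧ y ∈ C.basicOpen (-v - cst k V c))}
  have hB : ∀ c z, ν.base z ∈ B c ↔ z ∈ C'.basicOpen (G - cst k ⊤ c) := by
    intro c z
    by_cases hz : ν.base z = x
    · have hzV : z ∈ ν ⁻¹ᵁ V := show ν.base z ∈ V from hz ▸ hxV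
      rw [← mem_res (le_top : ν ⁻¹ᵁ V ≤ ⊤) hzV (G - cst k ⊤ c), map_sub, hG1, hrc,
        show a₁ - cst k (ν ⁻¹ᵁ V) c = g + (ν.app V).hom (-v - cst k V c) by
          rw [map_sub, map_neg, h.cst_app]; ring,
        isUnit_germ_add hzV (hg z hz), ← Scheme.preimage_basicOpen]
      exact ⟨fun hh => hh.elim (fun hh => absurd hz hh.1) (fun hh => hh.2),
        fun hh => Or.inr ⟨hz, hh⟩⟩
    · have hzW : z ∈ ν ⁻¹ᵁ W := hz
      rw [← mem_res (le_top : ν ⁻¹ᵁ W ≤ ⊤) hzW (G - cst k ⊤ c), map_sub, hG2, hrc,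
        show a₂ - cst k (ν ⁻¹ᵁ W) c = (ν.app W).hom (-w - cst k W c) by
          rw [map_sub, map_neg, h.cst_app],
        ← Scheme.preimage_basicOpen]
      exact ⟨fun hh => hh.elim (fun hh => hh.2) (fun hh => absurd hh.1 hz),
        fun hh => Or.inl ⟨hz, hh⟩⟩
  have hBo : ∀ c, IsClosed (B c)ᶜ := fun c => by
    have : (B c)ᶜ = ν.base '' ((C'.basicOpen (G - cst k ⊤ c) : Set C')ᶜ) := by
      ext y
      constructor
      · intro hy
        obtain ⟨z, rfl⟩ := h.surj y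
        exact ⟨z, fun hz => hy ((hB c z).2 hz), rfl⟩
      · rintro ⟨z, hz, rfl⟩ hy
        exact hz ((hB c z).1 hy)
    rw [this]
    exact ν.isClosedMap _ (C'.basicOpen _).2.isClosed_compl
  have hint : (cst k (⊤ : C'.Opens)).IsIntegralElem G := by
    haveI := h.proper'
    have hh : (cst k (⊤ : C'.Opens)).IsIntegral := by
      show (((Scheme.ΓSpecIso (CommRingCat.of k)).inv ≫
        (C' ↘ Spec (CommRingCat.of k)).appLE ⊤ ⊤ le_top).hom).IsIntegral
      rw [show (C' ↘ Spec (CommRingCat.of k)).appLE ⊤ ⊤ le_top = (C' ↘ Spec (CommRingCat.of k)).app ⊤ from (Scheme.Hom.app_eq_appLE _).symm, CommRingCat.hom_comp]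
      exact RingHom.IsIntegral.trans _ _ (RingHom.isIntegral_of_surjective _
        (Scheme.ΓSpecIso (CommRingCat.of k)).commRingCatIsoToRingEquiv.symm.surjective)
        (isIntegral_appTop_of_universallyClosed _)
    exact hh G
  obtain ⟨q, hq, hq0⟩ := hint
  classical
  let R : Finset k := q.roots.toFinset
  have hcov : ∀ y : C, ∃ c ∈ R, y ∉ B c := by
    intro y
    obtain ⟨z, rfl⟩ := h.surj y
    by_contra hne
    push Not at hne
    have hsp := (IsAlgClosed.splits q).eq_prod_roots_of_monic hq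
    rw [hsp, Polynomial.eval₂_multiset_prod, Multiset.map_map] at hq0
    have hu : IsUnit (C'.presheaf.germ ⊤ z (Opens.mem_top z) ((q.roots.map
        ((Polynomial.eval₂ (cst k ⊤) G) ∘ fun a => Polynomial.X - Polynomial.C a)).prod)) := by
      rw [map_multiset_prod, Multiset.map_map]
      apply Multiset.prod_induction (fun t => IsUnit t) _ (fun a b ha hb => ha.mul hb) isUnit_one
      intro t ht
      obtain ⟨c, hc, rfl⟩ := Multiset.mem_map.1 ht
      simp only [Function.comp_apply, Polynomial.eval₂_sub, Polynomial.eval₂_X, Polynomial.eval₂_C]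
      exact (Scheme.mem_basicOpen C' _ z (Opens.mem_top z)).1
        ((hB c z).1 (hne c (Multiset.mem_toFinset.2 hc)))
    rw [hq0, map_zero] at hu
    exact not_isUnit_zero hu
  have huniq : ∀ y c c', y ∉ B c → y ∉ B c' → c = c' := by
    intro y c c' hc hc'
    obtain ⟨z, rfl⟩ := h.surj y
    rw [hB] at hc hc'
    by_contra hne
    have : z ∈ C'.basicOpen ((G - cst k ⊤ c) + (cst k ⊤ c - cst k ⊤ c')) :=
      (isUnit_germ_add (Opens.mem_top z) hc).2 ((Scheme.mem_basicOpen C' _ z (Opens.mem_top z)).2 (by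
        rw [← map_sub]
        exact ((isUnit_iff_ne_zero.2 (sub_ne_zero.2 hne)).map _).map _))
    rw [sub_add_sub_cancel] at this
    exact hc' this
  obtain ⟨c₀, -, hc₀⟩ := hcov x
  have hclopen : IsClopen (B c₀)ᶜ := by
    refine ⟨hBo c₀, ?_⟩
    rw [isOpen_iff_mem_nhds]
    intro y hy
    have hcl : IsClosed (⋃ c ∈ R.erase c₀, (B c)ᶜ) :=
      (R.erase c₀).finite_toSet.isClosed_biUnion fun c _ => hBo c
    refine Filter.mem_of_superset (hcl.isOpen_compl.mem_nhds fun hh => ?_) fun y' hy' => ?_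
    · obtain ⟨c, hc, hyc⟩ := Set.mem_iUnion₂.1 hh
      exact (Finset.mem_erase.1 hc).1 (huniq y c c₀ hyc hy)
    · obtain ⟨c, hc, hyc⟩ := hcov y'
      by_contra hne
      exact hy' (Set.mem_iUnion₂.2 ⟨c, Finset.mem_erase.2 ⟨fun he => hne (he ▸ hyc), hc⟩, hyc⟩)
  haveI := h.conn
  have huniv := hclopen.eq_univ ⟨x, hc₀⟩
  have hGc : G - cst k ⊤ c₀ = 0 := by
    haveI := h.red'
    apply eq_zero_of_basicOpen_eq_bot
    exact eq_bot_iff.2 fun z hz => (huniv.ge (Set.mem_univ (ν.base z))) ((hB c₀ z).2 hz)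
  refine ⟨v + cst k V c₀, ?_⟩
  have := congrArg (C'.presheaf.map (homOfLE (le_top : ν ⁻¹ᵁ V ≤ ⊤)).op) (sub_eq_zero.1 hGc)
  rw [hG1, hrc] at this
  rw [map_add, h.cst_app, ← this]
  show (ν.app V).hom v + (g - (ν.app V).hom v) = g
  ring

theorem descend_value {x : C} (hx : IsClosed ({x} : Set C)) {V : C.Opens} (hxV : x ∈ V)
    (hV : ∀ y ∈ V, y ≠ x → y ∈ U) (g : Γ(C', ν ⁻¹ᵁ V)) (c : k)
    (hg : ∀ z, ν.base z = x → z ∉ C'.basicOpen (g - cst k (ν ⁻¹ᵁ V) c)) :
    ∃ a : Γ(C, V), (ν.app V).hom a = g := by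
  obtain ⟨a, ha⟩ := h.descend hx hxV hV _ hg
  exact ⟨a + cst k V c, by rw [map_add, ha, h.cst_app]; ring⟩

/-- Over a regular point the fibre is a single point. -/
theorem fibre_subsingleton {x : C} (hxU : x ∉ U)
    (hreg : IsRegularLocalRing (C.presheaf.stalk x)) {z₁ z₂ : C'}
    (h₁ : ν.base z₁ = x) (h₂ : ν.base z₂ = x) : z₁ = z₂ := by
  by_contra hne
  haveI := h.fin
  haveI := hreg
  haveI := h.noeth'
  have hx := h.isClosed_of_not_mem hxU
  haveI hP : (IsLocalRing.maximalIdeal (C.presheaf.stalk x)).IsPrincipal := by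
    have hle : ringKrullDim (C.presheaf.stalk x) ≤ ((1 : ℕ) : WithBot ℕ∞) :=
      (SmoothCurve.Stalk.coheight_le_topologicalKrullDim x).trans h.dim |> fun hh => by
        rw [ringKrullDim_stalk_eq_coheight]; exact hh
    rw [← IsRegularLocalRing.spanFinrank_maximalIdeal] at hle
    have hle' : (IsLocalRing.maximalIdeal (C.presheaf.stalk x)).spanFinrank ≤ 1 := by
      exact_mod_cast hle
    rcases Nat.le_one_iff_eq_zero_or_eq_one.1 hle' with h0 | h1
    · rw [(Submodule.spanFinrank_eq_zero_iff_eq_bot (IsNoetherian.noetherian _)).1 h0]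
      exact bot_isPrincipal
    · exact ((Submodule.spanFinrank_eq_one_iff _).1 h1).1
  obtain ⟨π₀, hπ₀⟩ := hP.principal
  obtain ⟨V₀, hxV₀, π₁, hπ₁⟩ := C.presheaf.germ_exist π₀
  obtain ⟨O, hxO, hO⟩ := h.exists_nhd x
  obtain ⟨V, hVaff, hxV, hVle⟩ := exists_isAffineOpen_mem_and_subset
    (show x ∈ V₀ ⊓ O from ⟨hxV₀, hxO⟩)
  let π : Γ(C, V) := C.presheaf.map (homOfLE (fun y hy => (hVle hy).1 : V ≤ V₀)).op π₁
  have hπ : C.presheaf.germ V x hxV π = π₀ :=
    (TopCat.Presheaf.germ_res_apply _ _ _ _ π₁).trans hπ₁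
  have hV : ∀ y ∈ V, y ≠ x → y ∈ U := fun y hy => hO y (hVle hy).2
  have hπx : x ∉ C.basicOpen π := fun hh => by
    have := (Scheme.mem_basicOpen C _ x hxV).1 hh
    rw [hπ] at this
    exact (IsLocalRing.mem_maximalIdeal _).1
      (hπ₀ ▸ Submodule.mem_span_singleton_self π₀) this
  have hgen : ∀ y : C, y ⤳ x → y ≠ x → y ∈ C.basicOpen π := by
    intro y hy hyx
    have hyV : y ∈ V := hy.mem_open V.2 hxV
    obtain ⟨a, hale, hya⟩ := hVaff.exists_basicOpen_le (V := ⟨({x} : Set C)ᶜ, hx.isOpen_compl⟩)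
      ⟨y, hyx⟩ hyV
    have hax : x ∉ C.basicOpen a := fun hh => hale hh rfl
    have ham : C.presheaf.germ V x hxV a ∈ IsLocalRing.maximalIdeal _ :=
      (IsLocalRing.mem_maximalIdeal _).2 fun hh => hax ((Scheme.mem_basicOpen C _ x hxV).2 hh)
    rw [hπ₀] at ham
    obtain ⟨b, hb⟩ := Submodule.mem_span_singleton.1 ham
    have := congrArg (C.presheaf.stalkSpecializes hy) hb
    rw [← hπ, smul_eq_mul, map_mul, TopCat.Presheaf.germ_stalkSpecializes_apply,
      TopCat.Presheaf.germ_stalkSpecializes_apply] at this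
    have hu := (Scheme.mem_basicOpen C _ y hyV).1 hya
    rw [← this] at hu
    exact (Scheme.mem_basicOpen C _ y hyV).2 (isUnit_of_mul_isUnit_right hu)
  have hπne : ∀ z (hz : ν.base z = x),
      C'.presheaf.germ (ν ⁻¹ᵁ V) z (show ν.base z ∈ V from hz ▸ hxV) ((ν.app V).hom π) ≠ 0 := by
    intro z hz h0
    obtain ⟨η, hη, hηU⟩ := exists_generization z h.dense'
    have hη' : ν.base η ⤳ x := hz ▸ hη.map ν.continuous
    have hne' : ν.base η ≠ x := fun he => hxU (he ▸ hηU)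
    have hm : η ∈ C'.basicOpen ((ν.app V).hom π) := by
      rw [← Scheme.preimage_basicOpen]
      exact hgen _ hη' hne'
    have hηV : η ∈ ν ⁻¹ᵁ V := C'.basicOpen_le _ hm
    have := congrArg (C'.presheaf.stalkSpecializes hη) h0
    rw [map_zero, TopCat.Presheaf.germ_stalkSpecializes_apply] at this
    have hu := (Scheme.mem_basicOpen C' _ η hηV).1 hm
    rw [this] at hu
    exact not_isUnit_zero hu
  have hz₁V : z₁ ∈ ν ⁻¹ᵁ V := show ν.base z₁ ∈ V from h₁ ▸ hxV
  have hz₂V : z₂ ∈ ν ⁻¹ᵁ V := show ν.base z₂ ∈ V from h₂ ▸ hxV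
  have hc₁ : IsClosed ({z₁} : Set C') := by
    have hd := ν.isDiscrete_preimage_singleton x
    haveI : DiscreteTopology ↑(ν.base ⁻¹' {x}) := hd.to_subtype
    have := (hx.preimage ν.continuous).isClosedEmbedding_subtypeVal.isClosedMap _
      (isClosed_discrete {(⟨z₁, h₁⟩ : ↑(ν.base ⁻¹' {x}))})
    simpa using this
  obtain ⟨e, hele, he₂⟩ := (hVaff.preimage ν).exists_basicOpen_le
    (V := ⟨({z₁} : Set C')ᶜ, hc₁.isOpen_compl⟩) ⟨z₂, Ne.symm hne⟩ hz₂V
  obtain ⟨r, hr⟩ := h.descend hx hxV hV (e * (ν.app V).hom π) (fun z hz hh => by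
    rw [Scheme.basicOpen_mul, ← Scheme.preimage_basicOpen] at hh
    exact hπx (show x ∈ C.basicOpen π from hz ▸ hh.2))
  have hrx : x ∉ C.basicOpen r := fun hh => by
    have : z₁ ∈ ν ⁻¹ᵁ C.basicOpen r := show ν.base z₁ ∈ C.basicOpen r from h₁ ▸ hh
    rw [Scheme.preimage_basicOpen, hr, Scheme.basicOpen_mul] at this
    exact hele this.1 rfl
  have hrm : C.presheaf.germ V x hxV r ∈ IsLocalRing.maximalIdeal _ :=
    (IsLocalRing.mem_maximalIdeal _).2 fun hh => hrx ((Scheme.mem_basicOpen C _ x hxV).2 hh)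
  rw [hπ₀] at hrm
  obtain ⟨s₀, hs₀⟩ := Submodule.mem_span_singleton.1 hrm
  have key : ∀ z (hz : ν.base z = x), (z ∈ C'.basicOpen e ↔ IsUnit s₀) := by
    intro z hz
    subst hz
    have hzV : z ∈ ν ⁻¹ᵁ V := hxV
    haveI := h.domain' z
    have hs : (ν.stalkMap z).hom s₀ = C'.presheaf.germ (ν ⁻¹ᵁ V) z hzV e := by
      have h1 := congrArg (ν.stalkMap z).hom hs₀
      rw [← hπ, smul_eq_mul, map_mul] at h1
      rw [Scheme.Hom.germ_stalkMap_apply, Scheme.Hom.germ_stalkMap_apply, hr, map_mul] at h1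
      exact mul_right_cancel₀ (hπne z rfl) h1
    rw [Scheme.mem_basicOpen C' _ z hzV, ← hs]
    exact isUnit_map_iff (ν.stalkMap z).hom s₀
  exact hele ((key z₁ h₁).2 ((key z₂ h₂).1 he₂)) rfl

/-- Morphisms constant on fibres descend. -/
theorem exists_desc (f : C' ⟶ C)
    (hf : f ≫ (C ↘ Spec (CommRingCat.of k)) = C' ↘ Spec (CommRingCat.of k))
    (hfib : ∀ a b, ν.base a = ν.base b → f.base a = f.base b)
    (hclosed : ∀ a, ν.base a ∉ U → IsClosed ({f.base a} : Set C)) :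
    ∃ φ : C ⟶ C, ν ≫ φ = f := by
  haveI := h.prop
  haveI := h.fin
  haveI := h.red
  haveI := h.iso
  have hloc : ∀ y : C, ∃ (V : C.Opens), y ∈ V ∧
      ∃ φ : (V : Scheme.{u}) ⟶ C, (ν ∣_ V) ≫ φ = (ν ⁻¹ᵁ V).ι ≫ f := by
    intro y
    by_cases hy : y ∈ U
    · exact ⟨U, hy, inv (ν ∣_ U) ≫ (ν ⁻¹ᵁ U).ι ≫ f, by rw [IsIso.hom_inv_id_assoc]⟩
    obtain ⟨z, rfl⟩ := h.surj y
    obtain ⟨W, hW, hzW, -⟩ := exists_isAffineOpen_mem_and_subset
      (show f.base z ∈ (⊤ : C.Opens) from trivial)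
    obtain ⟨O, hyO, hO⟩ := h.exists_nhd (ν.base z)
    let V : C.Opens := O ⊓ ⟨(ν.base '' ((f ⁻¹ᵁ W : C'.Opens) : Set C')ᶜ)ᶜ,
      (ν.isClosedMap _ (f ⁻¹ᵁ W).2.isClosed_compl).isOpen_compl⟩
    have hle : ν ⁻¹ᵁ V ≤ f ⁻¹ᵁ W := fun a ha => by_contra fun hh => ha.2 ⟨a, hh, rfl⟩
    have hyV : ν.base z ∈ V := ⟨hyO, by
      rintro ⟨a, ha, hab⟩
      exact ha (show f.base a ∈ W from hfib z a hab.symm ▸ hzW)⟩
    have hex : ∀ a : Γ(C, W), ∃ b : Γ(C, V), (ν.app V).hom b = (f.appLE W (ν ⁻¹ᵁ V) hle).hom a := by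
      intro a
      obtain ⟨c, hc⟩ := exists_value (k := k) (hclosed z hy) hzW a
      refine h.descend_value (h.isClosed_of_not_mem hy) hyV (fun w hw => hO w hw.1) _ c
        fun z' hz' hh => hc ?_
      have e : (f.appLE W (ν ⁻¹ᵁ V) hle).hom (cst k W c) = cst k (ν ⁻¹ᵁ V) c := by
        show (f.appLE W (ν ⁻¹ᵁ V) hle).hom (((Scheme.ΓSpecIso (CommRingCat.of k)).inv ≫
          (C ↘ Spec (CommRingCat.of k)).appLE ⊤ W le_top).hom c) = _
        rw [← ConcreteCategory.comp_apply]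
        unfold cst
        congr 2
        rw [Category.assoc, ← hf]
        congr 1
        rw [Scheme.Hom.appLE_comp_appLE]
      rw [← e, ← map_sub, Scheme.Hom.appLE, CommRingCat.hom_comp, RingHom.comp_apply,
        Scheme.basicOpen_res, ← Scheme.preimage_basicOpen] at hh
      exact (hfib z' z hz') ▸ hh.2
    choose θ hθ using hex
    let Θ : Γ(C, W) ⟶ Γ(C, V) := CommRingCat.ofHom
      { toFun := θ
        map_one' := h.app_injective V (by rw [hθ, map_one, map_one])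
        map_mul' := fun a b => h.app_injective V (by rw [hθ, map_mul, map_mul, hθ, hθ])
        map_zero' := h.app_injective V (by rw [hθ, map_zero, map_zero])
        map_add' := fun a b => h.app_injective V (by rw [hθ, map_add, map_add, hθ, hθ]) }
    have hΘ : Θ ≫ ν.app V = f.appLE W (ν ⁻¹ᵁ V) hle := CommRingCat.hom_ext (RingHom.ext hθ)
    refine ⟨V, hyV, V.toSpecΓ ≫ Spec.map Θ ≫ hW.fromSpec, ?_⟩
    rw [← Scheme.Opens.toSpecΓ_naturality_assoc, ← Spec.map_comp_assoc, hΘ,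
      Scheme.Opens.toSpecΓ_SpecMap_appLE_assoc, IsAffineOpen.toSpecΓ_fromSpec,
      Scheme.Hom.resLE_comp_ι]
  choose V hyV φ hφ using hloc
  let 𝒰 : C.OpenCover := C.openCoverOfIsOpenCover V (by
    rw [IsOpenCover, eq_top_iff]
    exact fun y _ => Opens.mem_iSup.2 ⟨y, hyV y⟩)
  haveI : Surjective ν := ⟨h.surj⟩
  haveI : C.IsSeparated := ⟨by
    rw [← terminal.comp_from (C ↘ Spec (CommRingCat.of k))]; infer_instance⟩
  have hcompat : ∀ i j, pullback.fst (V i).ι (V j).ι ≫ φ i = pullback.snd (V i).ι (V j).ι ≫ φ j := by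
    intro i j
    haveI : IsReduced (pullback (V i).ι (V j).ι) :=
      isReduced_of_isOpenImmersion (pullback.fst (V i).ι (V j).ι ≫ (V i).ι)
    let P := pullback (pullback.fst (V i).ι (V j).ι ≫ (V i).ι) ν
    haveI : Surjective (pullback.fst (pullback.fst (V i).ι (V j).ι ≫ (V i).ι) ν) :=
      MorphismProperty.pullback_fst _ _ (inferInstance : Surjective ν)
    refine ext_of_isDominant (pullback.fst (pullback.fst (V i).ι (V j).ι ≫ (V i).ι) ν) ?_
    have hi : IsPullback (ν ⁻¹ᵁ V i).ι (ν ∣_ V i) ν (V i).ι := (isPullback_morphismRestrict ν (V i)).flip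
    have hj : IsPullback (ν ⁻¹ᵁ V j).ι (ν ∣_ V j) ν (V j).ι := (isPullback_morphismRestrict ν (V j)).flip
    have ci : pullback.snd (pullback.fst (V i).ι (V j).ι ≫ (V i).ι) ν ≫ ν =
        (pullback.fst _ ν ≫ pullback.fst (V i).ι (V j).ι) ≫ (V i).ι := by
      rw [Category.assoc, ← pullback.condition]
    have cj : pullback.snd (pullback.fst (V i).ι (V j).ι ≫ (V i).ι) ν ≫ ν =
        (pullback.fst _ ν ≫ pullback.snd (V i).ι (V j).ι) ≫ (V j).ι := by
      rw [Category.assoc, ← pullback.condition (f := (V i).ι), ← pullback.condition]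
    calc pullback.fst _ ν ≫ pullback.fst (V i).ι (V j).ι ≫ φ i
        = hi.lift _ _ ci ≫ (ν ∣_ V i) ≫ φ i := by rw [hi.lift_snd_assoc, Category.assoc]
      _ = pullback.snd _ ν ≫ f := by rw [hφ, hi.lift_fst_assoc]
      _ = hj.lift _ _ cj ≫ (ν ∣_ V j) ≫ φ j := by rw [hφ, hj.lift_fst_assoc]
      _ = _ := by rw [hj.lift_snd_assoc, Category.assoc]
  refine ⟨𝒰.glueMorphisms φ hcompat, ?_⟩
  apply Scheme.Cover.hom_ext (𝒰.pullback₁ ν)
  intro i
  show pullback.fst ν (V i).ι ≫ ν ≫ 𝒰.glueMorphisms φ hcompat = pullback.fst ν (V i).ι ≫ f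
  rw [pullback.condition_assoc]
  erw [𝒰.ι_glueMorphisms φ hcompat i]
  rw [← (pullbackRestrictIsoRestrict ν (V i)).hom_inv_id_assoc (pullback.snd ν (V i).ι ≫ φ i),
    ← (pullbackRestrictIsoRestrict ν (V i)).hom_inv_id_assoc (pullback.fst ν (V i).ι ≫ f)]
  congr 1
  rw [pullbackRestrictIsoRestrict_inv_fst_assoc]
  exact hφ i

end Ctx

end Groth.Agent.Lib.H99Desc
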