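import Groth.Agent.Lib.Curves.MVModule
import Groth.Agent.Lib.Curves.Finiteness
import Groth.Agent.Lib.Curves.Degree

set_option autoImplicit false
set_option linter.style.haveILetI false

universe u

open CategoryTheory CategoryTheory.Limits CategoryTheory.Abelian AlgebraicGeometry Opposite
  TopologicalSpace
open Groth.Agent.Lib.Curves Groth.Agent.Lib.ZarCoh Groth.Agent.Lib.Cech

noncomputable section

namespace Groth.Agent.Lib.H99Desc

theorem exists_sub_ab {T : TopCat.{u}} (G : CohTop.Ab T) (hG : Subsingleton (CohTop.H G 1))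
    {U V : Opens T} (hUV : U ⊔ V = ⊤) (s : G.obj.obj (op (U ⊓ V))) :
    ∃ (a : G.obj.obj (op U)) (b : G.obj.obj (op V)),
      s = G.obj.map (homOfLE (inf_le_left : U ⊓ V ≤ U)).op a -
        G.obj.map (homOfLE (inf_le_right : U ⊓ V ≤ V)).op b := by
  haveI : Subsingleton (CohTop.HU G 1 (U ⊔ V)) := by
    rw [hUV]
    haveI := hG
    exact (Compare.hTop G 1).symm.injective.subsingleton
  obtain ⟨x, y, hxy⟩ := MV.exists_sub_eq G U V 0 (MVConnecting.cls G (U ⊓ V) s)
    (Subsingleton.elim _ _)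
  obtain ⟨a, rfl⟩ : ∃ a, MVConnecting.cls G U a = x := by
    obtain ⟨g, rfl⟩ := (Ext.mk₀_bijective _ _).2 x
    exact ⟨Basic.homEquiv U G g, by rw [MVConnecting.cls_apply, Equiv.symm_apply_apply]⟩
  obtain ⟨b, rfl⟩ : ∃ b, MVConnecting.cls G V b = y := by
    obtain ⟨g, rfl⟩ := (Ext.mk₀_bijective _ _).2 y
    exact ⟨Basic.homEquiv V G g, by rw [MVConnecting.cls_apply, Equiv.symm_apply_apply]⟩
  refine ⟨a, b, ?_⟩
  have h1 : Function.Injective (MVConnecting.cls G (U ⊓ V)) := fun p q h =>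
    (Basic.homEquiv (U ⊓ V) G).symm.injective ((Ext.mk₀_bijective _ _).1 h)
  apply h1
  rw [map_sub, ← MVConnecting.rs_cls, ← MVConnecting.rs_cls, ← hxy]
  rfl

variable {k : Type u} [Field k] {X : Scheme.{u}} [X.Over (Spec (CommRingCat.of k))]

theorem subsingleton_h1 [IsProper (X ↘ Spec (CommRingCat.of k))]
    (hdim : topologicalKrullDim X ≤ 1) (hg : Curv2.genus k X = 0) :
    Subsingleton (Coh.HH X (Coh.structureModule X) 1) := by
  haveI : FiniteDimensional k (Coh.HH X (Coh.structureModule X) 1) :=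
    (Finiteness.isGood_of_isCoh (k := k) hdim Degree.isCoh_structureModule).fin₁
  exact Module.finrank_zero_iff.mp hg

omit [X.Over (Spec (CommRingCat.of k))] in
/-- With vanishing `H¹(O)` a section on the overlap of a two-set cover is a difference. -/
theorem exists_sub (h1 : Subsingleton (Coh.HH X (Coh.structureModule X) 1))
    {V W : X.Opens} (hVW : V ⊔ W = ⊤) (s : Γ(X, V ⊓ W)) :
    ∃ (a : Γ(X, V)) (b : Γ(X, W)),
      s = X.presheaf.map (homOfLE (inf_le_left : V ⊓ W ≤ V)).op a -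
        X.presheaf.map (homOfLE (inf_le_right : V ⊓ W ≤ W)).op b :=
  exists_sub_ab (Coh.toAb (Coh.structureModule X)) h1 hVW s

end Groth.Agent.Lib.H99Desc
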